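import Cfsg.Agent.Lib.LyType.FiveLocal.Main

/-!
# Consequences: no proper invariant subgroup, order of the centraliser of `f`
-/

set_option autoImplicit false

namespace CfsgLib.LyType.FiveLocal

open Subgroup

variable {G : Type*} [Group G] [Finite G] {t : G}
  {π : centralizer ({t} : Set G) →* alternatingGroup (Fin 11)} {f : centralizer ({t} : Set G)}

/-- The invariant subgroups are the centre and the core. -/
theorem Invariant.cases {Q : Subgroup G} (I : Invariant t π f Q) (K : CoreFacts t π f) :
    Q = zpowers (f : G) ∨ Q = core (f : G) := by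
  obtain ⟨j, hj5, hj⟩ := (Nat.dvd_prime_pow (by norm_num : Nat.Prime 5)).1 (K.card ▸ card_dvd_of_le I.high)
  have h8 := I.eight_dvd
  rw [hj] at h8
  have h0 : j ≠ 0 := by
    rintro rfl
    have := I.card_le
    rw [hj] at this
    norm_num at this
  rcases pow_five_cases hj5 h8 h0 with rfl | rfl | rfl
  · exact Or.inl (eq_of_le_of_card_ge I.low (by rw [Nat.card_zpowers, I.five.f_five, hj, pow_one])).symm
  · exact absurd hj I.card_ne
  · exact Or.inr (eq_of_le_of_card_ge I.high (by rw [hj, K.card]))

/-- The conjugates of any element of the core outside the centre generate the core with the centre. -/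
theorem CoreFacts.closure_conj (K : CoreFacts t π f) (h : Five t π f) {w : G} (hw : w ∈ core (f : G))
    (hwF : w ∉ zpowers (f : G)) :
    zpowers (f : G) ⊔ closure {x | ∃ c : centralizer ({t} : Set G), c * f = f * c ∧ (c : G) * w * (c : G)⁻¹ = x} =
      core (f : G) := by
  set S := {x | ∃ c : centralizer ({t} : Set G), c * f = f * c ∧ (c : G) * w * (c : G)⁻¹ = x} with hS
  set Q := zpowers (f : G) ⊔ closure S with hQ
  have hwS : w ∈ S := ⟨1, by simp, by simp⟩
  have hhigh : Q ≤ core (f : G) := sup_le h.zpowers_le_core ((closure_le _).2 fun x hx => by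
    obtain ⟨c, hc, rfl⟩ := hx
    exact core_conj hw (mem_centralizer_singleton_iff.2 (congrArg Subtype.val hc)))
  have hconj : ∀ c : centralizer ({t} : Set G), c * f = f * c → Q ≤ Q.comap (MulAut.conj (c : G)).toMonoidHom := by
    intro c hc
    refine sup_le (fun z hz => ?_) ((closure_le _).2 ?_)
    · have h1 : Commute (c : G) z := by
        obtain ⟨i, rfl⟩ := mem_zpowers_iff.1 hz
        exact (show Commute (c : G) (f : G) from congrArg Subtype.val hc).zpow_right i
      show (c : G) * z * (c : G)⁻¹ ∈ Q
      rw [h1.eq, mul_inv_cancel_right]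
      exact mem_sup_left hz
    · rintro _ ⟨d, hd, rfl⟩
      refine mem_sup_right (subset_closure ⟨c * d, ((show Commute c f from hc).mul_left hd).eq, ?_⟩)
      show _ = (c : G) * ((d : G) * w * (d : G)⁻¹) * (c : G)⁻¹
      rw [Subgroup.coe_mul]; group
  have I : Invariant t π f Q := ⟨h, le_sup_left, hhigh, fun c hc x hx => hconj c hc hx⟩
  refine (I.cases K).resolve_left fun e => hwF ?_
  rw [← e]
  exact mem_sup_right (subset_closure hwS)

/-- The centraliser of `f` is the core extended by the double cover of `A₆`. -/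
theorem CoreFacts.card_centralizer (K : CoreFacts t π f) (h : Five t π f) :
    5 * Nat.card (centralizer ({(f : G)} : Set G)) =
      5 ^ 5 * Nat.card (centralizer ({f} : Set (centralizer ({t} : Set G)))) := by
  set W := core (f : G)
  set Cf := centralizer ({(f : G)} : Set G)
  set D := (centralizer ({f} : Set (centralizer ({t} : Set G)))).map (centralizer ({t} : Set G)).subtype
  have hDC : D ≤ Cf := by
    rintro _ ⟨c, hc, rfl⟩
    exact mem_centralizer_singleton_iff.2 (congrArg Subtype.val (mem_centralizer_singleton_iff.1 hc))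
  haveI : (W.subgroupOf Cf).Normal := ⟨fun n hn g => core_conj hn g.2⟩
  have hinf : W ⊓ D = zpowers (f : G) := by
    refine le_antisymm ?_ (le_inf h.zpowers_le_core (zpowers_le.2 ⟨f, mem_centralizer_singleton_iff.2 rfl, rfl⟩))
    rintro _ ⟨hw, c, hc, rfl⟩
    exact h.core_inf hw
  have hsup : W.subgroupOf Cf ⊔ D.subgroupOf Cf = ⊤ := by
    refine eq_top_iff.2 fun g _ => ?_
    obtain ⟨w, hw, c, hc, e⟩ := h.exists_mul g.2
    have hcD : (c : G) ∈ D := ⟨c, mem_centralizer_singleton_iff.2 (Subtype.ext hc), rfl⟩
    rw [show g = (⟨w, core_le _ hw⟩ : Cf) * ⟨c, hDC hcD⟩ from Subtype.ext e]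
    exact mul_mem (mem_sup_left hw) (mem_sup_right hcD)
  have h1 := Subgroup.card_mul_index (W.subgroupOf Cf)
  have h2 : (W.subgroupOf Cf).index * 5 = Nat.card D := by
    rw [← relIndex_top_right, ← hsup, sup_comm, relIndex_sup_right, ← inf_relIndex_right]
    have h3 : (W.subgroupOf Cf ⊓ D.subgroupOf Cf).relIndex (D.subgroupOf Cf) = (W ⊓ D).relIndex D := by
      rw [show W.subgroupOf Cf ⊓ D.subgroupOf Cf = (W ⊓ D).subgroupOf Cf from rfl, relIndex_subgroupOf hDC]
    rw [h3, hinf, relIndex, index_eq_card]
    have hle : zpowers (f : G) ≤ D := hinf ▸ inf_le_right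
    have h4 := card_eq_card_quotient_mul_card_subgroup ((zpowers (f : G)).subgroupOf D)
    rw [Nat.card_congr (subgroupOfEquivOfLe hle).toEquiv, Nat.card_zpowers, h.f_five] at h4
    exact h4.symm
  rw [← h1, Nat.card_congr (subgroupOfEquivOfLe (core_le (f : G))).toEquiv, K.card,
    ← show Nat.card D = Nat.card (centralizer ({f} : Set (centralizer ({t} : Set G)))) from
      (Nat.card_congr ((centralizer ({f} : Set (centralizer ({t} : Set G)))).equivMapOfInjective _
        (centralizer ({t} : Set G)).subtype_injective).toEquiv).symm, ← h2]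
  ring

end CfsgLib.LyType.FiveLocal
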